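import Cfsg.Agent.H241.NHTools
import Cfsg.Agent.H393.Iso.Co2
import Cfsg.Agent.H393.Iso.Co3
import Cfsg.Agent.CpAutCoFive.Comps
import Cfsg.Agent.PreUniqCo.Facts
import Cfsg.Agent.Omega.Quasithin.Row.McL
import Cfsg.Agent.NotCT.Orders

/-! # Rows of the nilpotent Hall cluster: `Co₃`, `Co₂` (helper978) -/

set_option autoImplicit false
open Cfsg Cfsg.Spor Subgroup Module

namespace Cfsg.Agent.H978.NH

open Cfsg.Agent.H630.NH Cfsg.Agent.H241.NH Cfsg.Agent.H393.Iso
open Cfsg.Agent.PreUniqCo.LatCo Cfsg.Agent.PreUniqCo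
open Cfsg.Agent.SigZeroCo2.Rank (fix mem_fix)
open Cfsg.Agent.SigZeroCo2.Lin (rep Sp)

/-- an elementary abelian subgroup of order 9 -/
theorem exists_nine {H : Type*} [Group H] [Finite H] (h : ¬ PRankLE 3 2 H) :
    ∃ E : Subgroup H, IsElementaryAbelian 3 E ∧ Nat.card E = 9 := by
  rw [PRankLE] at h
  push Not at h
  obtain ⟨A, hA, hA3, hlt⟩ := h
  have : Fact (Nat.Prime 3) := ⟨Nat.prime_three⟩
  have hp : IsPGroup 3 A := fun a => ⟨1, Subtype.ext (by rw [pow_one]; exact hA3 a a.2)⟩
  obtain ⟨k, hk⟩ := IsPGroup.iff_card.1 hp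
  have h2 : 2 ≤ k := by
    by_contra hc
    rw [hk] at hlt
    exact absurd (Nat.pow_lt_pow_iff_right (by norm_num : 1 < 3) |>.1 hlt) (by omega)
  obtain ⟨B, hB⟩ := Sylow.exists_subgroup_card_pow_prime 3 (n := 2) (G := A) (by rw [hk]; exact pow_dvd_pow 3 h2)
  refine ⟨B.map A.subtype, ⟨?_, ?_⟩, ?_⟩
  · refine ⟨⟨?_⟩⟩
    rintro ⟨_, a, ha, rfl⟩ ⟨_, b, hb, rfl⟩
    apply Subtype.ext
    have h3 := congrArg (fun x : A => (x : H)) (hA.is_comm.comm a b)
    exact h3
  · rintro _ ⟨a, ha, rfl⟩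
    exact hA3 a a.2
  · rw [card_map_of_injective A.subtype_injective, hB]
    norm_num

section

variable {H : Type*} [Group H] [Finite H] {φ : H →* Co0} {v : leechLattice}

/-- a group of automorphisms of the Leech lattice with a nonzero fixed vector: 3 and `r ≥ 5` -/
theorem nc_three (hφ : Function.Injective φ) (hv : v ≠ 0) (hfix : ∀ h, φ h • v = v) (h9 : ¬ PRankLE 3 2 H) {r : ℕ}
    (hr : r.Prime) (h5 : 5 ≤ r) (hd : r ∣ Nat.card H) : NC 3 r H := by
  obtain ⟨E, hE, hEc⟩ := exists_nine h9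
  obtain ⟨a, ha, b, hb, oa, ob, oab, oab2, hab⟩ := Gen.exists_gens hE hEc
  refine nc_of_group Nat.prime_three hr (by omega) hd E (fun x => ⟨1, Subtype.ext ?_⟩) ?_
  · rw [pow_one]
    exact hE.2 x x.2
  intro y hy hc
  have ord : ∀ x, orderOf (φ x) = orderOf x := fun x => orderOf_injective φ hφ x
  have hay : Commute a y := hc a ha
  have hby : Commute b y := hc b hb
  have hpos : ∀ x : H, finrank ℚ (fix (rep (φ x))) ≠ 0 := fun x => Rows.finrank_ne_zero hv (hfix x)
  have e1 : φ a * φ b = φ (a * b) := (map_mul φ a b).symm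
  have e2 : φ a * φ b ^ 2 = φ (a * b ^ 2) := by rw [map_mul, map_pow]
  rcases exists_free Facts.facts hr h5 (a := φ a) (b := φ b) (y := φ y) (by rw [ord, oa]) (by rw [ord, ob])
    (by rw [e1, ord, oab]) (by rw [e2, ord, oab2]) (by rw [ord, hy]) (hab.map φ) (hay.map φ) (hby.map φ)
    with h | h | h | h
  · exact hpos _ h
  · exact hpos _ h
  · rw [e1] at h
    exact hpos _ h
  · rw [e2] at h
    exact hpos _ h

/-- a group of automorphisms of the Leech lattice with a nonzero fixed vector: 5 and `r ≥ 7` -/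
theorem nc_five (hφ : Function.Injective φ) (hv : v ≠ 0) (hfix : ∀ h, φ h • v = v) (h5 : 5 ∣ Nat.card H) {r : ℕ}
    (hr : r.Prime) (h7 : 7 ≤ r) (hd : r ∣ Nat.card H) : NC 5 r H := by
  have : Fact (Nat.Prime 5) := ⟨by norm_num⟩
  obtain ⟨x, hx⟩ := exists_prime_orderOf_dvd_card' 5 h5
  refine nc_of_card (a := 1) hr (by omega) (x := x) ⟨1, by rw [hx, pow_one]⟩ (by rwa [pow_one]) ?_
  rw [pow_one]
  have hmem : x ∈ centralizer ({x} : Set H) := mem_centralizer_singleton_iff.2 rfl
  refine CpAutCoFive.not_prime (φ := φ.comp (centralizer ({x} : Set H)).subtype) (x := ⟨x, hmem⟩)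
    (hφ.comp Subtype.val_injective) hv (fun h => hfix _) ?_ ?_ hr h7
  · rw [← Subgroup.orderOf_coe]
    exact hx
  · intro g
    apply Subtype.ext
    exact mem_centralizer_singleton_iff.1 g.2

end

theorem row_co3 {G : Type*} [Group G] [Finite G] [IsSimpleGroup G] (h : Spor.IsoCo3 G) : Row G := by
  have hN := NotCT.Orders.co3 h
  have h23 := na_co3 h
  have hrk : ¬ PRankLE 3 2 G := Omega.Quasithin.Row.McL.row_co3 G h
  obtain ⟨e⟩ := h
  let ψ : Co3 →* Co0 := Subgroup.inclusion (inf_le_left : Co3 ≤ Co0)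
  have hψ : Function.Injective ψ := Subgroup.inclusion_injective _
  let φ : G →* Co0 := ψ.comp e.toMonoidHom
  have hφ : Function.Injective φ := hψ.comp e.injective
  have hfix : ∀ g, φ g • leechV = leechV := fun g => (e g).2.2
  refine row_of (N := 495766656000) (k := 10) hN [3, 5, 7, 11, 23] [3, 5] [23] 7 [] ?_ ?_ ?_ ?_ ?_ ?_ ?_ ?_
  · intro q hq; fin_cases hq <;> norm_num
  · decide +kernel
  · decide +kernel
  · exact ab_of_not_cube (by norm_num) (by rw [hN]; norm_num)
  · have h3 : ∀ r ∈ [5, 7, 11, 23], NC 3 r G := by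
      intro r hr
      fin_cases hr <;> exact nc_three hφ Rows.leechV_ne hfix hrk (by norm_num) (by norm_num) (by rw [hN]; norm_num)
    have h5 : ∀ r ∈ [7, 11, 23], NC 5 r G := by
      intro r hr
      fin_cases hr <;> exact nc_five hφ Rows.leechV_ne hfix (by rw [hN]; norm_num) (by norm_num) (by norm_num)
        (by rw [hN]; norm_num)
    intro p hp q hq hpq
    fin_cases hp <;> fin_cases hq
    · exact absurd rfl hpq
    · exact h3 5 (by simp)
    · exact h3 7 (by simp)
    · exact h3 11 (by simp)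
    · exact h3 23 (by simp)
    · exact (h3 5 (by simp)).symm
    · exact absurd rfl hpq
    · exact h5 7 (by simp)
    · exact h5 11 (by simp)
    · exact h5 23 (by simp)
  · intro r hr
    obtain rfl := List.mem_singleton.1 hr
    exact solv_of_na (by norm_num) (by rw [hN]; norm_num) h23
  · intro a ha; exact absurd ha (by simp)
  · decide

theorem row_co2 {G : Type*} [Group G] [Finite G] [IsSimpleGroup G] (h : Spor.IsoCo2 G) : Row G := by
  have hN := NotCT.Orders.co2 h
  have h23 := na_co2 h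
  have hrk : ¬ PRankLE 3 2 G := Omega.Quasithin.Row.McL.row_co2 G h
  obtain ⟨e⟩ := h
  let ψ : Co2 →* Co0 := Subgroup.inclusion (inf_le_left : Co2 ≤ Co0)
  have hψ : Function.Injective ψ := Subgroup.inclusion_injective _
  let φ : G →* Co0 := ψ.comp e.toMonoidHom
  have hφ : Function.Injective φ := hψ.comp e.injective
  have hfix : ∀ g, φ g • leechU = leechU := fun g => (e g).2.2
  refine row_of (N := 42305421312000) (k := 18) hN [3, 5, 7, 11, 23] [3, 5] [23] 7 [] ?_ ?_ ?_ ?_ ?_ ?_ ?_ ?_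
  · intro q hq; fin_cases hq <;> norm_num
  · decide +kernel
  · decide +kernel
  · exact ab_of_not_cube (by norm_num) (by rw [hN]; norm_num)
  · have h3 : ∀ r ∈ [5, 7, 11, 23], NC 3 r G := by
      intro r hr
      fin_cases hr <;> exact nc_three hφ Rows.leechU_ne hfix hrk (by norm_num) (by norm_num) (by rw [hN]; norm_num)
    have h5 : ∀ r ∈ [7, 11, 23], NC 5 r G := by
      intro r hr
      fin_cases hr <;> exact nc_five hφ Rows.leechU_ne hfix (by rw [hN]; norm_num) (by norm_num) (by norm_num)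
        (by rw [hN]; norm_num)
    intro p hp q hq hpq
    fin_cases hp <;> fin_cases hq
    · exact absurd rfl hpq
    · exact h3 5 (by simp)
    · exact h3 7 (by simp)
    · exact h3 11 (by simp)
    · exact h3 23 (by simp)
    · exact (h3 5 (by simp)).symm
    · exact absurd rfl hpq
    · exact h5 7 (by simp)
    · exact h5 11 (by simp)
    · exact h5 23 (by simp)
  · intro r hr
    obtain rfl := List.mem_singleton.1 hr
    exact solv_of_na (by norm_num) (by rw [hN]; norm_num) h23
  · intro a ha; exact absurd ha (by simp)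
  · decide

end Cfsg.Agent.H978.NH
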